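/-
The transpositions commuting with two non-commuting members, seen in a group one step down that is
of type M(22): their number, valency and local structure.
-/
import Cfsg.Agent.H72.Conn.Link
import Cfsg.Agent.H65.Fischer.Types

set_option autoImplicit false
set_option linter.unusedSectionVars false

namespace H45.M23Step

open Cfsg H99 H99.Fi H65.Fischer
open H5.TT.Fac (Down qD im Desc)

variable {G : Type*} [Group G] [Finite G] {D : Set G} {d : G}

open Classical in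
/-- The image one step down, defined everywhere. -/
noncomputable def dprj (D : Set G) (d y : G) : Down D d :=
  if h : y ∈ Subgroup.closure (perp D d) then QuotientGroup.mk ⟨y, h⟩ else 1

theorem dprj_mk {y : G} (h : y ∈ Subgroup.closure (perp D d)) :
    dprj D d y = QuotientGroup.mk ⟨y, h⟩ := dif_pos h

theorem dprj_eq {y : G} (h : y ∈ perp D d) : dprj D d y = im h := dprj_mk _

theorem dprj_mem {y : G} (h : y ∈ perp D d) : dprj D d y ∈ qD D d :=
  dprj_eq h ▸ H5.TT.Fac.im_mem h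

theorem dprj_mul {u v : G} (hu : u ∈ Subgroup.closure (perp D d))
    (hv : v ∈ Subgroup.closure (perp D d)) : dprj D d (u * v) = dprj D d u * dprj D d v := by
  rw [dprj_mk hu, dprj_mk hv, dprj_mk (mul_mem hu hv), ← QuotientGroup.mk_mul]
  rfl

variable (hd : Desc D d)
include hd

theorem dprj_inj {u v : G} (hu : u ∈ perp D d) (hv : v ∈ perp D d)
    (he : dprj D d u = dprj D d v) : u = v :=
  H5.TT.Fac.im_inj hd hu hv (by rw [← dprj_eq hu, ← dprj_eq hv, he])

theorem dprj_commute {u v : G} (hu : u ∈ perp D d) (hv : v ∈ perp D d) :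
    Commute (dprj D d u) (dprj D d v) ↔ Commute u v := by
  rw [dprj_eq hu, dprj_eq hv]
  exact H5.TT.Fac.im_commute hd hu hv

theorem dprj_perp {a : G} (ha : a ∈ perp D d) :
    dprj D d '' (perp D d ∩ perp D a) = perp (qD D d) (dprj D d a) := by
  ext z
  constructor
  · rintro ⟨y, hy, rfl⟩
    exact ⟨dprj_mem hy.1, fun he => hy.2.2.1 (dprj_inj hd hy.1 ha he),
      (dprj_commute hd ha hy.1).2 hy.2.2.2⟩
  · rintro ⟨hz, hne, hc⟩
    obtain ⟨y, hy, rfl⟩ := H5.TT.Fac.exists_of_mem hz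
    rw [← dprj_eq hy] at hne hc
    exact ⟨y, ⟨hy, hy.1, fun he => hne (he ▸ rfl), (dprj_commute hd ha hy).1 hc⟩, dprj_eq hy⟩

/-- The images of the members commuting with `d` and `x`. -/
def lset (D : Set G) (d x : G) : Set (Down D d) :=
  dprj D d '' (perp D d ∩ perp D x)

omit hd in
theorem lset_subset (x : G) : lset D d x ⊆ qD D d := by
  rintro _ ⟨a, ha, rfl⟩
  exact dprj_mem ha.1

theorem lset_inter {x a : G} (ha : a ∈ perp D d) :
    lset D d x ∩ perp (qD D d) (dprj D d a) =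
      dprj D d '' (perp D d ∩ perp D x ∩ perp D a) := by
  rw [← dprj_perp hd ha]
  ext e
  constructor
  · rintro ⟨⟨b, hb, rfl⟩, ⟨b', hb', he⟩⟩
    obtain rfl := dprj_inj hd hb'.1 hb.1 he
    exact ⟨_, ⟨hb, hb'.2⟩, rfl⟩
  · rintro ⟨b, hb, rfl⟩
    exact ⟨⟨b, hb.1, rfl⟩, ⟨b, ⟨hb.1.1, hb.2⟩, rfl⟩⟩

theorem lset_conj {x : G} {u v : Down D d} (hu : u ∈ lset D d x) (hv : v ∈ lset D d x) :
    u * v * u ∈ lset D d x := by
  obtain ⟨a, ha, rfl⟩ := hu
  obtain ⟨b, hb, rfl⟩ := hv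
  have hai := tt_inv hd.tt ha.1.1
  have hca : a ∈ Subgroup.closure (perp D d) := Subgroup.subset_closure ha.1
  have hcb : b ∈ Subgroup.closure (perp D d) := Subgroup.subset_closure hb.1
  refine ⟨a * b * a, ⟨?_, ?_⟩, ?_⟩
  · have := perp_conj hd.conj a hb.1
    rwa [ha.1.2.2.symm.eq, mul_inv_cancel_right, hai] at this
  · have := perp_conj hd.conj a hb.2
    rwa [ha.2.2.2.symm.eq, mul_inv_cancel_right, hai] at this
  · rw [dprj_mul (mul_mem hca hcb) hca, dprj_mul hca hcb]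

variable (hset : Setting D 3510 693 180 126) (hdD : d ∈ D)
include hset hdD

theorem lset_card {x : G} (hx : x ∈ D) (hdx : ¬ Commute d x) : (lset D d x).ncard = 351 := by
  rw [lset, Set.InjOn.ncard_image fun u hu v hv e => dprj_inj hd hu.1 hv.1 e]
  exact (good_23 hset).srg.nonadj d hdD x hx hdx

theorem lset_deg {x : G} (hx : x ∈ D) (hdx : ¬ Commute d x) {u : Down D d}
    (hu : u ∈ lset D d x) : (lset D d x ∩ perp (qD D d) u).ncard = 126 := by
  obtain ⟨a, ha, rfl⟩ := hu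
  rw [lset_inter hd ha.1,
    Set.InjOn.ncard_image fun u hu v hv e => dprj_inj hd hu.1.1 hv.1.1 e]
  exact hset.sdeg hdD hx hdx ha

variable (hpX : IsPrimitiveUnderConj (qD D d)) (hX : IsOfTypeM22 (Down D d) (qD D d))
include hpX hX

/-- The local structure one step further down. -/
theorem lset_link {x : G} (hx : x ∈ D) (hdx : ¬ Commute d x) {u : Down D d}
    (hu : u ∈ lset D d x) :
    ∃ (F : Type) (_ : Field F) (_ : Fintype F) (_ : Fintype.card F = 2 ^ 2)
      (e : Down (qD D d) u ≃* PSU 6 F 2),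
      H20.M22T.Link ((fun z : ↥(Subgroup.closure (perp (qD D d) u)) => e (QuotientGroup.mk z)) ''
        {z | (z : Down D d) ∈ lset D d x ∩ perp (qD D d) u}) := by
  have hgrp := class_toGroup (H5.TT.Fac.qD_class hd)
  set E := qD D d with hEdef
  have huE : u ∈ E := lset_subset x hu
  obtain ⟨F, hFi, hFf, hF, hall⟩ := m22_down hgrp hpX hX
  obtain ⟨hdesc, -, ⟨e⟩⟩ := hall u huE
  refine ⟨F, hFi, hFf, hF, e, ?_⟩
  have himg := image_qD hF hgrp.1 hgrp.2.1 hdesc e
  have hcomm : ∀ {v w : Down D d} (hv : v ∈ perp E u) (hw : w ∈ perp E u),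
      Commute (e (im hv)) (e (im hw)) ↔ Commute v w := fun hv hw =>
    ⟨fun h => (H5.TT.Fac.im_commute hdesc hv hw).1 (by simpa using h.map e.symm),
      fun h => ((H5.TT.Fac.im_commute hdesc hv hw).2 h).map e⟩
  set U : Set (PSU 6 F 2) := (fun z : ↥(Subgroup.closure (perp E u)) => e (QuotientGroup.mk z)) ''
    {z | (z : Down D d) ∈ lset D d x ∩ perp E u} with hU
  have hUmem : ∀ {t}, t ∈ U ↔ ∃ v, ∃ hv : v ∈ perp E u, v ∈ lset D d x ∧ e (im hv) = t := by
    intro t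
    constructor
    · rintro ⟨⟨v, hv⟩, h, rfl⟩
      exact ⟨v, h.2, h.1, rfl⟩
    · rintro ⟨v, hv, hl, rfl⟩
      exact ⟨⟨v, Subgroup.subset_closure hv⟩, ⟨hl, hv⟩, rfl⟩
  -- the members behind a point of the link and their transport to `d`
  obtain ⟨a, ha, rfl⟩ := hu
  have hmem : ∀ {v : Down D d}, v ∈ lset D d x → v ∈ perp E (dprj D d a) →
      ∃ b, b ∈ perp D d ∧ b ∈ perp D x ∧ b ∈ perp D a ∧ dprj D d b = v := by
    intro v hv hv'
    have h : v ∈ lset D d x ∩ perp E (dprj D d a) := ⟨hv, hv'⟩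
    rw [lset_inter hd ha.1] at h
    obtain ⟨b, ⟨⟨hb1, hb2⟩, hb3⟩, rfl⟩ := h
    exact ⟨b, hb1, hb2, hb3, rfl⟩
  obtain ⟨g, hg⟩ := class_isConj hset.cls ha.1.1 hdD
  set φ : G ≃* G := MulAut.conj g with hφ
  have hφa : φ a = d := hg
  have hφp : ∀ z, perp D (φ z) = φ '' perp D z := fun z => (conj_image_perp hset.conj g z).symm
  have hto : ∀ {z : G}, z ∈ perp D a → φ z ∈ perp D d := fun hz => hφa ▸ (hφp a).symm ▸ ⟨_, hz, rfl⟩
  have hd' : φ d ∈ perp D d := hto (perp_mem_symm hdD ha.1)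
  have hx' : φ x ∈ perp D d := hto (perp_mem_symm hx ha.2)
  refine ⟨?_, ?_, ?_, ?_, ?_⟩
  · rintro t ht
    obtain ⟨v, hv, -, rfl⟩ := hUmem.1 ht
    exact himg ▸ ⟨_, H5.TT.Fac.im_mem hv, rfl⟩
  · obtain ⟨v, hv⟩ := Set.nonempty_of_ncard_ne_zero
      (s := lset D d x ∩ perp E (dprj D d a))
      (by rw [lset_deg hd hset hdD hx hdx ⟨a, ha, rfl⟩]; norm_num)
    exact ⟨_, hUmem.2 ⟨v, hv.2, hv.1, rfl⟩⟩
  · intro s hs t ht
    obtain ⟨v, hv, hvl, rfl⟩ := hUmem.1 hs
    obtain ⟨w, hw, hwl, rfl⟩ := hUmem.1 ht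
    have hvi : v⁻¹ = v := tt_inv hgrp.1 hv.1
    have hk : v * w * v⁻¹ ∈ perp E (dprj D d a) :=
      H5.TT.Fac.perp_closure_conj hdesc (Subgroup.subset_closure hv) hw
    refine hUmem.2 ⟨_, hk, by rw [hvi]; exact lset_conj hd hvl hwl, ?_⟩
    rw [← map_inv, ← map_mul, ← map_mul]
    exact congrArg e (by
      simp only [im, ← QuotientGroup.mk_mul, ← QuotientGroup.mk_inv]
      rfl)
  · intro s hs
    obtain ⟨v, hv, hvl, rfl⟩ := hUmem.1 hs
    obtain ⟨b, hbd, hbx, hba, rfl⟩ := hmem hvl hv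
    have hcount : (lset D d x ∩ perp E (dprj D d a) ∩ perp E (dprj D d b)).ncard = 45 := by
      rw [show lset D d x ∩ perp E (dprj D d a) ∩ perp E (dprj D d b) =
        (lset D d x ∩ perp E (dprj D d a)) ∩ (lset D d x ∩ perp E (dprj D d b)) by
          ext; simp only [Set.mem_inter_iff]; tauto,
        lset_inter hd ha.1, lset_inter hd hbd,
        ← Set.InjOn.image_inter (u := perp D d) (fun u hu v hv e => dprj_inj hd hu hv e)
          (fun _ h => h.1.1) (fun _ h => h.1.1),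
        Set.InjOn.ncard_image fun u hu v hv e => dprj_inj hd hu.1.1.1 hv.1.1.1 e]
      rw [show perp D d ∩ perp D x ∩ perp D a ∩ (perp D d ∩ perp D x ∩ perp D b) =
          perp D a ∩ (perp D d ∩ perp D x ∩ perp D b) by
        ext; simp only [Set.mem_inter_iff]; tauto,
        ← Set.ncard_image_of_injective _ φ.injective, Set.image_inter φ.injective,
        Set.image_inter φ.injective, Set.image_inter φ.injective, ← hφp, ← hφp, ← hφp, ← hφp,
        hφa]
      have hb' : φ b ∈ perp D d := hto hba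
      have key : dprj D d '' (perp D d ∩ (perp D (φ d) ∩ perp D (φ x) ∩ perp D (φ b))) =
          perp E (dprj D d (φ d)) ∩ perp E (dprj D d (φ x)) ∩ perp E (dprj D d (φ b)) := by
        rw [← dprj_perp hd hd', ← dprj_perp hd hx', ← dprj_perp hd hb',
          ← Set.InjOn.image_inter (u := perp D d) (fun u hu v hv e => dprj_inj hd hu hv e)
            (fun _ h => h.1) (fun _ h => h.1),
          ← Set.InjOn.image_inter (u := perp D d) (fun u hu v hv e => dprj_inj hd hu hv e)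
            (fun _ h => h.1.1) (fun _ h => h.1)]
        congr 1
        ext
        simp only [Set.mem_inter_iff]
        tauto
      rw [← Set.InjOn.ncard_image (f := dprj D d) fun u hu v hv e => dprj_inj hd hu.1 hv.1 e, key]
      refine (m22_setting hgrp hpX hX).sdeg (dprj_mem hd') (dprj_mem hx') ?_ ⟨?_, ?_⟩
      · intro hc
        exact hdx (by simpa using ((dprj_commute hd hd' hx').1 hc).map φ.symm)
      · rw [← dprj_perp hd hd']
        exact ⟨φ b, ⟨hb', (hφp d).symm ▸ ⟨b, hbd, rfl⟩⟩, rfl⟩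
      · rw [← dprj_perp hd hx']
        exact ⟨φ b, ⟨hb', (hφp x).symm ▸ ⟨b, hbx, rfl⟩⟩, rfl⟩
    rw [← hcount]
    symm
    refine Set.ncard_congr (fun w hw => e (im hw.1.2)) (fun w hw => ⟨hUmem.2 ⟨w, hw.1.2, hw.1.1, rfl⟩,
      himg ▸ ⟨_, H5.TT.Fac.im_mem hw.1.2, rfl⟩,
      fun h => hw.2.2.1 (H5.TT.Fac.im_inj hdesc hw.1.2 hv (e.injective h)),
      (hcomm hv hw.1.2).2 hw.2.2.2⟩)
      (fun w w' hw hw' h => H5.TT.Fac.im_inj hdesc hw.1.2 hw'.1.2 (e.injective h)) fun t ht => ?_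
    obtain ⟨w, hw, hwl, rfl⟩ := hUmem.1 ht.1
    exact ⟨w, ⟨⟨hwl, hw⟩, hw.1, fun h => ht.2.2.1 (by subst h; rfl), (hcomm hv hw).1 ht.2.2.2⟩, rfl⟩
  · intro s hs t ht t' ht' hr
    obtain ⟨v, hv, hvl, rfl⟩ := hUmem.1 hs
    obtain ⟨w, hw, hwl, rfl⟩ := hUmem.1 ht.1
    obtain ⟨w', hw', hwl', rfl⟩ := hUmem.1 ht'.1
    obtain ⟨b, hbd, hbx, hba, rfl⟩ := hmem hvl hv
    obtain ⟨y, hyd, hyx, hya, rfl⟩ := hmem hwl hw
    obtain ⟨z, hzd, hzx, hza, rfl⟩ := hmem hwl' hw'
    have hby : Commute b y := (dprj_commute hd hbd hyd).1 ((hcomm hv hw).1 ht.2.2.2)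
    have hbz : Commute b z := (dprj_commute hd hbd hzd).1 ((hcomm hv hw').1 ht'.2.2.2)
    have hyne : y ≠ b := fun h => ht.2.2.1 (by subst h; rfl)
    have hzne : z ≠ b := fun h => ht'.2.2.1 (by subst h; rfl)
    have hrG : ∀ q ∈ perp D d, q ∈ perp D a → Commute q b → Commute q y → Commute q z := by
      intro q hq hqa h2 h3
      have hq' : dprj D d q ∈ perp E (dprj D d a) := dprj_perp hd ha.1 ▸ ⟨q, ⟨hq, hqa⟩, rfl⟩
      exact (dprj_commute hd hq hzd).1 ((hcomm hq' hw').1 (hr _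
        (himg ▸ ⟨_, H5.TT.Fac.im_mem hq', rfl⟩) ((hcomm hq' hv).2 ((dprj_commute hd hq hbd).2 h2))
        ((hcomm hq' hw).2 ((dprj_commute hd hq hyd).2 h3))))
    have hb' : φ b ∈ perp D d := hto hba
    have hy' : φ y ∈ perp D d := hto hya
    have hz' : φ z ∈ perp D d := hto hza
    have hperp : ∀ {p : G}, p ∈ perp D b → φ p ∈ perp D d →
        dprj D d (φ p) ∈ perp E (dprj D d (φ b)) := fun hp hp' =>
      dprj_perp hd hb' ▸ ⟨_, ⟨hp', (hφp b).symm ▸ ⟨_, hp, rfl⟩⟩, rfl⟩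
    have hzy : dprj D d (φ z) = dprj D d (φ y) := by
      refine H72.Conn.m22_line hgrp hpX hX (x := dprj D d (φ b)) (t := dprj D d (φ d))
        (c := dprj D d (φ x)) (dprj_mem hb') (hperp (perp_mem_symm hdD hbd) hd')
        (hperp (perp_mem_symm hx hbx) hx') (hperp ⟨hyd.1, hyne, hby⟩ hy')
        (hperp ⟨hzd.1, hzne, hbz⟩ hz') ?_ ?_
        ((dprj_commute hd hx' hy').2 (hyx.2.2.map φ)) ((dprj_commute hd hx' hz').2 (hzx.2.2.map φ))
        fun r hr' h2 h3 => ?_
      · intro hc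
        exact hdx (by simpa using (((dprj_commute hd hx' hd').1 hc).symm).map φ.symm)
      · exact fun h => hyd.2.1 (φ.injective (dprj_inj hd hy' hd' h.symm))
      · rw [← dprj_perp hd hb'] at hr'
        obtain ⟨r0, ⟨hr0, hr0b⟩, rfl⟩ := hr'
        obtain ⟨q, rfl⟩ := φ.surjective r0
        refine (dprj_commute hd hr0 hz').2 ?_
        have hqd : Commute q d := by simpa using ((dprj_commute hd hr0 hd').1 h2).map φ.symm
        have hqy : Commute q y := by simpa using ((dprj_commute hd hr0 hy').1 h3).map φ.symm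
        have hqb : Commute q b := by simpa using hr0b.2.2.symm.map φ.symm
        by_cases hqe : q = d
        · subst hqe
          exact hzd.2.2.map φ
        refine (hrG q ?_ ?_ hqb hqy).map φ
        · exact ⟨by simpa [φ, mul_assoc] using hset.conj g⁻¹ _ hr0.1, hqe, hqd.symm⟩
        · have : φ q ∈ φ '' perp D a := hφp a ▸ hφa.symm ▸ hr0
          rwa [φ.injective.mem_set_image] at this
    obtain rfl := φ.injective (dprj_inj hd hz' hy' hzy)
    rfl

end H45.M23Step
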