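/-
A primitive group whose group one step down is of type M(22) is of type M(23).
-/
import Cfsg.Agent.H45.M23Step.Link
import Cfsg.Agent.H38.M23Link.Main

set_option autoImplicit false

namespace H45.M23Step

open Cfsg H99 H65.Fischer
open H5.TT.Fac (Down qD im Desc)

variable {G : Type*} [Group G] [Finite G] {D : Set G}

/-- The standing hypotheses, from one step down of type M(22). -/
theorem setting_of_m22 (hD : IsThreeTranspositionGroup D) (hp : IsPrimitiveUnderConj D)
    (hZ : Subgroup.center G = ⊥) {d : G} (hd : d ∈ D) (hpX : IsPrimitiveUnderConj (qD D d))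
    (hX : IsOfTypeM22 (Down D d) (qD D d)) :
    Desc D d ∧ Setting D 3510 693 180 126 := by
  have hnc : H5.TT.Fac.NC D d := by
    obtain ⟨-, d', hd', c', hc', hdc', -⟩ := hX
    exact H5.TT.Fac.nc_of_pair hd' hc' hdc'
  obtain ⟨hcl, -, hdesc⟩ := H5.TT.Fac.top_desc hD hp hd hnc
  exact ⟨hdesc, setting_of_down hcl hp hZ hd hnc
    (m22_good (class_toGroup (H5.TT.Fac.qD_class hdesc)) hpX hX) (by norm_num)⟩

/-- One step up from type M(22) is type M(23). -/
theorem typeM23_of_down (hD : IsThreeTranspositionGroup D) (hp : IsPrimitiveUnderConj D)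
    (hZ : Subgroup.center G = ⊥) {d : G} (hd : d ∈ D) (hpX : IsPrimitiveUnderConj (qD D d))
    (hX : IsOfTypeM22 (Down D d) (qD D d)) : IsOfTypeM23 G D := by
  classical
  obtain ⟨hdesc, hset⟩ := setting_of_m22 hD hp hZ hd hpX hX
  obtain ⟨x, hx, hdx⟩ : ∃ x ∈ D, ¬ Commute d x := by
    obtain ⟨a, ha, b, hb, hab⟩ := hset.exists_noncomm
    obtain ⟨g, hg⟩ := class_isConj hset.cls ha hd
    exact ⟨_, hset.conj g b hb, fun h => hab ((conj_commute_iff g a b).1 (hg.symm ▸ h))⟩
  refine ⟨hZ, d, hd, x, hx, hdx, hX, ?_⟩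
  obtain ⟨c₃, hc₃, hL⟩ := H38.M23Link.link_seven (class_toGroup (H5.TT.Fac.qD_class hdesc)) hpX hX
    (lset_subset x) (lset_card hdesc hset hd hx hdx)
    (fun u hu => lset_deg hdesc hset hd hx hdx hu)
    (fun u hu v hv => lset_conj hdesc hu hv)
    (fun u hu => lset_link hdesc hset hd hpX hX hx hdx hu)
  refine ⟨c₃, hc₃, ?_⟩
  set S := perp D d ∩ perp D x with hS
  show IsProjReflectionGroupModThree
    (↥(Subgroup.closure S) ⧸ Subgroup.center ↥(Subgroup.closure S)) 7 (-c₃) c₃
  have hle : Subgroup.closure S ≤ Subgroup.closure (perp D d) :=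
    Subgroup.closure_mono Set.inter_subset_left
  let f : ↥(Subgroup.closure S) →* Down D d :=
    (QuotientGroup.mk' _).comp (Subgroup.inclusion hle)
  refine hL _ f ?_ ?_
  · intro y hy
    rw [MonoidHom.mem_ker, MonoidHom.comp_apply, QuotientGroup.mk'_apply, QuotientGroup.eq_one_iff,
      Subgroup.mem_center_iff] at hy
    exact Subgroup.mem_center_iff.2 fun g => Subtype.ext
      (congrArg (fun z : ↥(Subgroup.closure (perp D d)) => (z : G)) (hy (Subgroup.inclusion hle g)) :)
  · have hpre : Subgroup.closure (((↑) : ↥(Subgroup.closure S) → G) ⁻¹' S) = ⊤ :=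
      Subgroup.closure_closure_coe_preimage
    rw [MonoidHom.range_eq_map, ← hpre, MonoidHom.map_closure]
    congr 1
    ext z
    constructor
    · rintro ⟨⟨y, hy⟩, hyS, rfl⟩
      exact ⟨y, hyS, dprj_mk (hle hy)⟩
    · rintro ⟨y, hy, rfl⟩
      exact ⟨⟨y, Subgroup.subset_closure hy⟩, hy, (dprj_mk (hle (Subgroup.subset_closure hy))).symm⟩

end H45.M23Step
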