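/-
The step over type M(22), in the form the classification uses.
-/
import Cfsg.Agent.H45.M23Step.Main
import Cfsg.Agent.H71.Fischer.Defs

set_option autoImplicit false

namespace H45.M23Step

open Cfsg H71.Fischer

universe u

/-- M6: over type M(22). -/
theorem m23Stmt : M23Stmt.{u} := fun s hX =>
  typeM23_of_down s.grp s.prim s.triv s.mem s.downPrim hX

end H45.M23Step
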